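import Cfsg.Agent.H589.BD.Defs
import Cfsg.Agent.H672.Over
import Cfsg.Agent.H684.BlockTools
import Cfsg.Agent.H656.OverPrincipal
import Cfsg.Agent.H611.CoverPrincipal
import Cfsg.Agent.Blocks.Orthogonality

/-!
# Degrees in the principal block: basic facts (helper751, for S4932, S4953)
-/

set_option autoImplicit false
set_option linter.unusedSectionVars false

namespace Cfsg.Agent.H751.BD

open Cfsg Cfsg.Agent.H589.BD Cfsg.Agent.Characters.Core Cfsg.Agent.H672

universe u v

variable {p : ℕ} {M : Ideal AlgInt} {G : Type u} [Group G]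

/-- The trivial character. -/
def triv (G : Type u) [Group G] : IrrCharacter G := ⟨fun _ => 1, isIrr_one⟩

theorem triv_apply (g : G) : (triv G : G → ℂ) g = 1 := rfl

theorem triv_mem (hM : IsPModular p M) : triv G ∈ principalBlock M G := by
  have : M.IsPrime := hM.2.1.isPrime
  intro g
  show MemLocalIdeal M (centralChar (fun _ => 1) g - centralChar (fun _ => 1) g)
  rw [sub_self]
  exact Blocks.Local.memLocalIdeal_zero

theorem charDegree_triv : charDegree (triv G : G → ℂ) = 1 := charDegree_of_eq (by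
  rw [triv_apply, Nat.cast_one])

theorem cd0_finite [Finite G] : (cd0 M G).Finite := by
  have := finite_irr (G := G)
  refine (Set.finite_range fun χ : IrrCharacter G => charDegree (χ : G → ℂ)).subset ?_
  rintro d ⟨χ, -, rfl⟩
  exact ⟨χ, rfl⟩

theorem mem_cd0 {χ : IrrCharacter G} (h : χ ∈ principalBlock M G) :
    charDegree (χ : G → ℂ) ∈ cd0 M G := ⟨χ, h, rfl⟩

theorem one_mem_cd0 (hM : IsPModular p M) : 1 ∈ cd0 M G := ⟨triv G, triv_mem hM, charDegree_triv⟩

/-- Degrees of quotients. -/
theorem cd0_quot {H : Type v} [Group H] (hM : IsPModular p M) (f : G →* H)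
    (hf : Function.Surjective f) : cd0 M H ⊆ cd0 M G := by
  rintro d ⟨χ, hχ, rfl⟩
  refine ⟨_, H684.BlockTools.infl_mem hM f hf hχ, ?_⟩
  show charDegree ((χ : H → ℂ) ∘ f) = _
  apply charDegree_of_eq
  rw [Function.comp_apply, map_one, coe_charDegree χ.2]

/-- Three degrees. -/
theorem exists_pair [Finite G] (hM : IsPModular p M) (h : (cd0 M G).ncard ≤ 3) :
    ∃ a b : ℕ, ∀ d ∈ cd0 M G, d ≠ 1 → d = a ∨ d = b := by
  classical
  have hfin : (cd0 M G).Finite := cd0_finite
  have h1 : ((cd0 M G) \ {1}).ncard ≤ 2 := by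
    have := Set.ncard_sdiff_singleton_of_mem (one_mem_cd0 (G := G) hM)
    omega
  have hfin' : ((cd0 M G) \ {1}).Finite := hfin.subset Set.sdiff_subset
  rcases Nat.lt_or_ge ((cd0 M G) \ {1}).ncard 2 with h2 | h2
  · rcases Nat.lt_or_ge ((cd0 M G) \ {1}).ncard 1 with h3 | h3
    · have h4 : ((cd0 M G) \ {1}) = ∅ := by
        rw [← Set.ncard_eq_zero hfin']
        omega
      refine ⟨0, 0, fun d hd h1 => ?_⟩
      have : d ∈ ((cd0 M G) \ {1}) := ⟨hd, h1⟩
      rw [h4] at this
      exact absurd this (Set.notMem_empty _)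
    · obtain ⟨a, ha⟩ := Set.ncard_eq_one.1 (show ((cd0 M G) \ {1}).ncard = 1 by omega)
      refine ⟨a, a, fun d hd h1 => ?_⟩
      have : d ∈ ((cd0 M G) \ {1}) := ⟨hd, h1⟩
      rw [ha] at this
      exact Or.inl this
  · obtain ⟨a, b, -, hab⟩ := Set.ncard_eq_two.1 (show ((cd0 M G) \ {1}).ncard = 2 by omega)
    refine ⟨a, b, fun d hd h1 => ?_⟩
    have : d ∈ ((cd0 M G) \ {1}) := ⟨hd, h1⟩
    rw [hab] at this
    exact this

/-- `Over` for the inclusion of a normal subgroup: membership in the principal block goes down. -/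
theorem mem_of_over [Finite G] [Fact p.Prime] (hM : IsPModular p M) (N : Subgroup G) [N.Normal]
    {χ : IrrCharacter G} (hχ : χ ∈ principalBlock M G) {θ : IrrCharacter N}
    (h : Over N.subtype (χ : G → ℂ) (θ : N → ℂ)) : θ ∈ principalBlock M N := by
  have := Fintype.ofFinite G
  have := Fintype.ofFinite N
  rw [over_iff] at h
  exact H611.CoverPrincipal.mem_principalBlock_of_over p hM N χ θ h hχ

/-- Going up. -/
theorem exists_over_mem [Finite G] [Fact p.Prime] (hM : IsPModular p M) (N : Subgroup G) [N.Normal]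
    {θ : IrrCharacter N} (hθ : θ ∈ principalBlock M N) :
    ∃ χ : IrrCharacter G, χ ∈ principalBlock M G ∧ Over N.subtype (χ : G → ℂ) (θ : N → ℂ) := by
  have := Fintype.ofFinite G
  have := Fintype.ofFinite N
  obtain ⟨P⟩ : Nonempty (Sylow p G) := inferInstance
  obtain ⟨χ, h1, h2⟩ := H656.OverPrincipal.exists_over hM N P
    (by rw [Subgroup.normalizer_eq_top]; exact le_top) θ hθ
  refine ⟨χ, h1, ?_⟩
  rw [over_iff]
  exact h2

/-- Restriction of an inflated character along a surjective homomorphism. -/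
theorem over_self {H : Type v} [Group H] [Finite H] (f : H →* G) {χ : G → ℂ} {θ : H → ℂ}
    (hθ : IsIrrCharacter H θ) (h : χ ∘ f = θ) : Over f χ θ := by
  have := Fintype.ofFinite H
  rw [over_iff, h, classInner_irr_self hθ]
  exact one_ne_zero

end Cfsg.Agent.H751.BD
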