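import Cfsg.Agent.H751.BD.Two
import Cfsg.Agent.S4521

/-!
# Characters of a central product `L C` (helper751, for S4932, S4953)

`L`, `C` are commuting normal subgroups of `G`, `L ∩ C` is a `p`-group and all irreducible characters of `C` are in
the principal block. For `α ∈ B0(LC/C)` and `φ ∈ Irr(LC/L)` the product is a character of `LC` in the principal block.
-/

set_option autoImplicit false
set_option linter.unusedSectionVars false

namespace Cfsg.Agent.H751.BD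

open Cfsg Cfsg.Agent.H589.BD Cfsg.Agent.Characters.Core Cfsg.Agent.H672

universe u v w

theorem all_mem_equiv {A : Type u} [Group A] {B : Type v} [Group B] {M : Ideal AlgInt} [M.IsPrime]
    (e : A ≃* B) (h : ∀ χ : IrrCharacter B, χ ∈ principalBlock M B) (χ : IrrCharacter A) :
    χ ∈ principalBlock M A := by
  have h1 := H133.PB.mem_principalBlock_comp e.toMonoidHom e.surjective
    (h ⟨(χ : A → ℂ) ∘ e.symm, isIrr_comp e.symm.toMonoidHom e.symm.surjective χ.2⟩)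
  have h2 : (⟨((⟨(χ : A → ℂ) ∘ e.symm, isIrr_comp e.symm.toMonoidHom e.symm.surjective χ.2⟩ :
      IrrCharacter B) : B → ℂ) ∘ e.toMonoidHom, isIrr_comp e.toMonoidHom e.surjective
        (isIrr_comp e.symm.toMonoidHom e.symm.surjective χ.2)⟩ : IrrCharacter A) = χ := by
    apply Subtype.ext
    funext x
    show (χ : A → ℂ) (e.symm (e x)) = _
    rw [e.symm_apply_apply]
  rwa [h2] at h1

variable {G : Type u} [Group G]

/-- Two commuting normal subgroups. -/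
structure Cp (p : ℕ) (M : Ideal AlgInt) (L C : Subgroup G) : Prop where
  nL : L.Normal
  nC : C.Normal
  comm : ∀ x ∈ L, ∀ y ∈ C, x * y = y * x
  inf : IsPGroup p ↥(L ⊓ C)
  all : ∀ χ : IrrCharacter C, χ ∈ principalBlock M C

variable {H₁ : Type v} [Group H₁] {H₂ : Type w} [Group H₂] {L C : Subgroup G}
  (q : G →* H₁) (r : G →* H₂)

/-- `LC → LC/C`. -/
noncomputable def pa (hq : q.ker = C) : ↥(L ⊔ C) →* ↥(L.map q) :=
  (q.comp (L ⊔ C).subtype).codRestrict (L.map q) (by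
    intro x
    have h1 : (x : G) ∈ L ⊔ C := x.2
    have h2 : q x ∈ (L ⊔ C).map q := ⟨x, h1, rfl⟩
    have h3 : C.map q = ⊥ := by
      rw [Subgroup.map_eq_bot_iff, hq]
    rw [Subgroup.map_sup, h3, sup_bot_eq] at h2
    exact h2)

/-- `LC → LC/L`. -/
noncomputable def pb (hr : r.ker = L) : ↥(L ⊔ C) →* ↥(C.map r) :=
  (r.comp (L ⊔ C).subtype).codRestrict (C.map r) (by
    intro x
    have h1 : (x : G) ∈ L ⊔ C := x.2
    have h2 : r x ∈ (L ⊔ C).map r := ⟨x, h1, rfl⟩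
    have h3 : L.map r = ⊥ := by
      rw [Subgroup.map_eq_bot_iff, hr]
    rw [Subgroup.map_sup, h3, bot_sup_eq] at h2
    exact h2)

theorem coe_pa (hq : q.ker = C) (x : ↥(L ⊔ C)) : (pa (L := L) q hq x : H₁) = q x := rfl

theorem coe_pb (hr : r.ker = L) (x : ↥(L ⊔ C)) : (pb (C := C) r hr x : H₂) = r x := rfl

theorem pab_surj (hq : q.ker = C) (hr : r.ker = L) :
    Function.Surjective ((pa (L := L) q hq).prod (pb (C := C) r hr)) := by
  rintro ⟨⟨_, l, hl, rfl⟩, ⟨_, c, hc, rfl⟩⟩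
  have hl' : l ∈ L ⊔ C := (le_sup_left : L ≤ L ⊔ C) hl
  have hc' : c ∈ L ⊔ C := (le_sup_right : C ≤ L ⊔ C) hc
  have h1 : q c = 1 := by rw [← MonoidHom.mem_ker, hq]; exact hc
  have h2 : r l = 1 := by rw [← MonoidHom.mem_ker, hr]; exact hl
  refine ⟨⟨l * c, mul_mem hl' hc'⟩, ?_⟩
  refine Prod.ext (Subtype.ext ?_) (Subtype.ext ?_)
  · show q (l * c) = q l
    rw [map_mul, h1, mul_one]
  · show r (l * c) = r c
    rw [map_mul, h2, one_mul]

variable [Finite G]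

/-- The product character. -/
noncomputable def zz (hq : q.ker = C) (hr : r.ker = L) (α : IrrCharacter ↥(L.map q))
    (φ : IrrCharacter ↥(C.map r)) : IrrCharacter ↥(L ⊔ C) :=
  haveI : Finite ↥(L.map q) := Set.Finite.image q (Set.toFinite _)
  haveI : Finite ↥(C.map r) := Set.Finite.image r (Set.toFinite _)
  ⟨(outer α φ : _ → ℂ) ∘ ((pa (L := L) q hq).prod (pb (C := C) r hr)),
    isIrr_comp _ (pab_surj q r hq hr) (outer α φ).2⟩

theorem zz_apply (hq : q.ker = C) (hr : r.ker = L) (α : IrrCharacter ↥(L.map q))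
    (φ : IrrCharacter ↥(C.map r)) (x : ↥(L ⊔ C)) :
    (zz q r hq hr α φ : ↥(L ⊔ C) → ℂ) x =
      (α : ↥(L.map q) → ℂ) (pa (L := L) q hq x) * (φ : ↥(C.map r) → ℂ) (pb (C := C) r hr x) := rfl

theorem charDegree_zz (hq : q.ker = C) (hr : r.ker = L) (α : IrrCharacter ↥(L.map q))
    (φ : IrrCharacter ↥(C.map r)) : charDegree (zz q r hq hr α φ : ↥(L ⊔ C) → ℂ) =
      charDegree (α : ↥(L.map q) → ℂ) * charDegree (φ : ↥(C.map r) → ℂ) := by
  apply H672.charDegree_of_eq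
  rw [zz_apply, map_one, map_one, Nat.cast_mul, coe_charDegree α.2, coe_charDegree φ.2]

theorem zz_mem {p : ℕ} [Fact p.Prime] {M : Ideal AlgInt} (hM : IsPModular p M) (h : Cp p M L C)
    (hq : q.ker = C) (hr : r.ker = L) {α : IrrCharacter ↥(L.map q)}
    (hα : α ∈ principalBlock M ↥(L.map q)) (φ : IrrCharacter ↥(C.map r)) :
    zz q r hq hr α φ ∈ principalBlock M ↥(L ⊔ C) := by
  have hMp : M.IsPrime := hM.2.1.isPrime
  have := Fintype.ofFinite ↥(L ⊔ C)
  let U₁ : Subgroup ↥(L ⊔ C) := L.subgroupOf (L ⊔ C)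
  let U₂ : Subgroup ↥(L ⊔ C) := C.subgroupOf (L ⊔ C)
  have := Fintype.ofFinite U₁
  have := Fintype.ofFinite U₂
  let e₂ : U₂ ≃* C := Subgroup.subgroupOfEquivOfLe le_sup_right
  have hs₁ : Function.Surjective ((pa (L := L) q hq).comp U₁.subtype) := by
    rintro ⟨_, l, hl, rfl⟩
    exact ⟨⟨⟨l, (le_sup_left : L ≤ L ⊔ C) hl⟩, hl⟩, rfl⟩
  have hs₂ : Function.Surjective ((pb (C := C) r hr).comp U₂.subtype) := by
    rintro ⟨_, c, hc, rfl⟩
    exact ⟨⟨⟨c, (le_sup_right : C ≤ L ⊔ C) hc⟩, hc⟩, rfl⟩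
  let ψ₁ : IrrCharacter U₁ := ⟨(α : ↥(L.map q) → ℂ) ∘ ((pa (L := L) q hq).comp U₁.subtype), isIrr_comp _ hs₁ α.2⟩
  let ψ₂ : IrrCharacter U₂ := ⟨(φ : ↥(C.map r) → ℂ) ∘ ((pb (C := C) r hr).comp U₂.subtype), isIrr_comp _ hs₂ φ.2⟩
  have hψ₁ : ψ₁ ∈ principalBlock M U₁ := H133.PB.mem_principalBlock_comp _ hs₁ hα
  have hψ₂ : ψ₂ ∈ principalBlock M U₂ := all_mem_equiv e₂ h.all ψ₂
  refine (S4521.result p M hM U₁ U₂ ?_ ?_ ?_ _ ψ₁ ψ₂ ?_ ?_).2 ⟨hψ₁, hψ₂⟩
  · rintro x hx y hy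
    exact Subtype.ext (h.comm x hx y hy)
  · rw [← Subgroup.subgroupOf_sup le_sup_left le_sup_right, Subgroup.subgroupOf_self]
  · let f : ↥(U₁ ⊓ U₂) →* ↥(L ⊓ C) :=
      ((L ⊔ C).subtype.comp (U₁ ⊓ U₂).subtype).codRestrict (L ⊓ C) (fun x => ⟨x.2.1, x.2.2⟩)
    have hf : Function.Injective f := fun a b hab => by
      have h2 : (f a : G) = (f b : G) := congrArg Subtype.val hab
      exact Subtype.ext (Subtype.ext h2)
    exact h.inf.of_injective f hf
  · have h1 : (fun u : U₁ => (zz q r hq hr α φ : ↥(L ⊔ C) → ℂ) u) =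
        ((φ : ↥(C.map r) → ℂ) 1) • (ψ₁ : U₁ → ℂ) := by
      funext u
      rw [zz_apply, Pi.smul_apply, smul_eq_mul, mul_comm]
      have h2 : pb (C := C) r hr (u : ↥(L ⊔ C)) = 1 := by
        apply Subtype.ext
        rw [coe_pb, OneMemClass.coe_one, ← MonoidHom.mem_ker, hr]
        exact u.2
      rw [h2]
      rfl
    rw [h1, classInner_smul_left, classInner_irr_self ψ₁.2, mul_one]
    exact isIrr_apply_one_ne_zero φ.2
  · have h1 : (fun u : U₂ => (zz q r hq hr α φ : ↥(L ⊔ C) → ℂ) u) =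
        ((α : ↥(L.map q) → ℂ) 1) • (ψ₂ : U₂ → ℂ) := by
      funext u
      rw [zz_apply, Pi.smul_apply, smul_eq_mul]
      have h2 : pa (L := L) q hq (u : ↥(L ⊔ C)) = 1 := by
        apply Subtype.ext
        rw [coe_pa, OneMemClass.coe_one, ← MonoidHom.mem_ker, hq]
        exact u.2
      rw [h2]
      rfl
    rw [h1, classInner_smul_left, classInner_irr_self ψ₂.2, mul_one]
    exact isIrr_apply_one_ne_zero α.2

end Cfsg.Agent.H751.BD
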