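import Cfsg.Agent.H751.BD.Tic

/-!
# The degrees over a simple component (helper751, for S4932, S4953)
-/

set_option autoImplicit false
set_option linter.unusedSectionVars false

namespace Cfsg.Agent.H751.BD

open Cfsg Cfsg.Agent.H589.BD Cfsg.Agent.Characters.Core Cfsg.Agent.H672

universe u v w

variable {H : Type u} [Group H]

theorem ne_one_iff {K : Type v} [Group K] {θ : IrrCharacter K} :
    (∃ g : K, (θ : K → ℂ) g ≠ 1) ↔ (θ : K → ℂ) ≠ 1 := by
  constructor
  · rintro ⟨g, hg⟩ h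
    apply hg
    rw [h]
    rfl
  · intro h
    by_contra hcon
    push Not at hcon
    exact h (funext hcon)

/-- `|Out S| < θ(1)`. -/
theorem SizeOK.lt {S : Type u} [Group S] (hS : SizeOK S) {θ : IrrCharacter S} (h : (θ : S → ℂ) ≠ 1) :
    Nat.card (Out S) < charDegree (θ : S → ℂ) := hS θ (ne_one_iff.2 h)

theorem out_pos {S : Type u} [Group S] [Finite S] : 0 < Nat.card (Out S) := Nat.card_pos

/-- The data about the degrees `a`, `b` at a simple component. -/
structure Ab (M : Ideal AlgInt) (S : Subgroup H) (a b : ℕ) : Prop where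
  ne : a ≠ b
  mema : a ∈ cd0 M H
  memb : b ∈ cd0 M H
  left : ∃ θ : IrrCharacter S, θ ∈ principalBlock M S ∧ (θ : S → ℂ) ≠ 1 ∧
    (Subgroup.normalizer (S : Set H)).index * charDegree (θ : S → ℂ) ∣ a
  right : ∃ θ : IrrCharacter S, θ ∈ principalBlock M S ∧ (θ : S → ℂ) ≠ 1 ∧
    (Subgroup.normalizer (S : Set H)).index * charDegree (θ : S → ℂ) ∣ b
  gcd : ∀ g : ℕ, g ∣ a → g ∣ b → g ≤ (Subgroup.normalizer (S : Set H)).index * Nat.card (Out S)

theorem Ab.symm {M : Ideal AlgInt} {S : Subgroup H} {a b : ℕ} (h : Ab M S a b) : Ab M S b a :=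
  ⟨h.ne.symm, h.memb, h.mema, h.right, h.left, fun g h1 h2 => h.gcd g h2 h1⟩

theorem Ab.ne_one [Finite H] {M : Ideal AlgInt} {S : Subgroup H} {a b : ℕ} (h : Ab M S a b)
    (hS : SizeOK S) : a ≠ 1 := by
  obtain ⟨θ, -, h1, h2⟩ := h.left
  intro ha
  rw [ha, Nat.dvd_one, mul_eq_one] at h2
  have h3 := SizeOK.lt hS h1
  have h4 := out_pos (S := S)
  omega

theorem Tic.ab [Finite H] {p : ℕ} [hpr : Fact p.Prime] {M : Ideal AlgInt} (hM : IsPModular p M)
    {N S : Subgroup H} (h : Tic N S) (hS : SizeOK S) (hp : p ∣ Nat.card S) {a b : ℕ}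
    (hab : ∀ d ∈ cd0 M H, d ≠ 1 → d = a ∨ d = b) : Ab M S a b := by
  obtain ⟨u, hu⟩ := exists_prime_orderOf_dvd_card' p hp
  obtain ⟨D, hD0, hD1, hD⟩ := exists_D hM (mul2 S) h.inj (u := u) (by rw [hu])
  have hm : 0 < (Subgroup.normalizer (S : Set H)).index := Nat.pos_of_ne_zero Subgroup.index_ne_zero_of_finite
  have hDle : D ≤ (Subgroup.normalizer (S : Set H)).index * Nat.card (Out S) := by
    have h1 := hD1.trans h.card_le
    exact Nat.le_of_mul_le_mul_right h1 (Nat.mul_pos Nat.card_pos Nat.card_pos)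
  have hN := h.norm
  -- the characters over `θ × 1`
  have key : ∀ χ : IrrCharacter H, χ ∈ principalBlock M H → TT (mul2 S) (χ : H → ℂ) →
      (∃ θ : IrrCharacter S, θ ∈ principalBlock M S ∧ (θ : S → ℂ) ≠ 1 ∧
        (Subgroup.normalizer (S : Set H)).index * charDegree (θ : S → ℂ) ∣ charDegree (χ : H → ℂ)) ∧
      (charDegree (χ : H → ℂ) = a ∨ charDegree (χ : H → ℂ) = b) := by
    rintro χ hχ ⟨θ, hθ, hθ1, ho⟩
    have ho' := h.over_of_mul2 (θ := ⟨θ, hθ⟩) χ.2 ho
    have hd := h.dvd χ.2 (θ := ⟨θ, hθ⟩) hθ1 ho'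
    refine ⟨⟨⟨θ, hθ⟩, ?_, hθ1, hd⟩, ?_⟩
    · exact h.mem_block_of_infl hM (mem_of_over hM N hχ ho')
    · apply hab _ (mem_cd0 hχ)
      intro h1
      rw [h1, Nat.dvd_one, mul_eq_one] at hd
      have h2 := SizeOK.lt hS (θ := ⟨θ, hθ⟩) hθ1
      have h3 := out_pos (S := S)
      have h4 : charDegree θ = 1 := hd.2
      change Nat.card (Out S) < charDegree θ at h2
      omega
  have notall : ∀ c : ℕ, ¬ ∀ χ : IrrCharacter H, χ ∈ principalBlock M H → TT (mul2 S) (χ : H → ℂ) →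
      charDegree (χ : H → ℂ) = c := by
    intro c hc
    have hne : ∃ χ : IrrCharacter H, χ ∈ principalBlock M H ∧ TT (mul2 S) (χ : H → ℂ) := by
      by_contra hcon
      push Not at hcon
      have := hD (D + 1) fun χ h1 h2 => absurd h2 (hcon χ h1)
      exact absurd (Nat.le_of_dvd hD0 this) (by omega)
    obtain ⟨χ, h1, h2⟩ := hne
    have h3 : c ∣ D := hD c fun χ h1 h2 => by rw [hc χ h1 h2]
    have h4 := Nat.le_of_dvd hD0 h3
    obtain ⟨⟨θ, -, hθ1, hd⟩, -⟩ := key χ h1 h2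
    rw [hc χ h1 h2] at hd
    have h5 := Nat.le_of_dvd (Nat.pos_of_ne_zero fun h0 => by
      have := charDegree_pos χ.2
      rw [hc χ h1 h2, h0] at this
      exact absurd this (lt_irrefl 0)) hd
    have h6 := Nat.mul_lt_mul_of_pos_left (SizeOK.lt hS hθ1) hm
    omega
  have hl : ∃ χ : IrrCharacter H, χ ∈ principalBlock M H ∧ TT (mul2 S) (χ : H → ℂ) ∧
      charDegree (χ : H → ℂ) ≠ b := by
    have := notall b
    push Not at this
    exact this
  have hr : ∃ χ : IrrCharacter H, χ ∈ principalBlock M H ∧ TT (mul2 S) (χ : H → ℂ) ∧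
      charDegree (χ : H → ℂ) ≠ a := by
    have := notall a
    push Not at this
    exact this
  obtain ⟨χ, h1, h2, h3⟩ := hl
  obtain ⟨χ', h1', h2', h3'⟩ := hr
  obtain ⟨h4, h5⟩ := key χ h1 h2
  obtain ⟨h4', h5'⟩ := key χ' h1' h2'
  have h6 : charDegree (χ : H → ℂ) = a := h5.resolve_right h3
  have h6' : charDegree (χ' : H → ℂ) = b := h5'.resolve_left h3'
  refine ⟨fun e => h3 (h6.trans e), h6 ▸ mem_cd0 h1, h6' ▸ mem_cd0 h1', ?_, ?_, ?_⟩
  · rw [h6] at h4; exact h4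
  · rw [h6'] at h4'; exact h4'
  · intro g hga hgb
    refine (Nat.le_of_dvd hD0 (hD g fun χ h1 h2 => ?_)).trans hDle
    rcases (key χ h1 h2).2 with h | h
    · rw [h]; exact hga
    · rw [h]; exact hgb

end Cfsg.Agent.H751.BD
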