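import Cfsg.Agent.H751.BD.Two
import Cfsg.Agent.Lib.GenFitting
import Cfsg.Agent.H14.DiagThree

/-!
# The components of `G` in `G / C_G(E(G))` (helper751, for S4932, S4953)
-/

set_option autoImplicit false
set_option linter.unusedSectionVars false

namespace Cfsg.Agent.H751.BD

open Cfsg Cfsg.Agent.H589.BD Subgroup
open Cfsg.Agent.SignalizersComponents.Components
open scoped commutatorElement

universe u v w

variable {G : Type u} [Group G]

/-- `C_G(E(G))`. -/
def CE (G : Type u) [Group G] : Subgroup G := centralizer (layer G : Set G)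

theorem CE_normal [Finite G] : (CE G).Normal := by
  have : (layer G).Normal := layer_normal G
  unfold CE
  infer_instance

section

variable [Finite G]

theorem mem_CE {x : G} : x ∈ CE G ↔ ∀ K : Subgroup G, IsComponent K → ∀ y ∈ K, y * x = x * y := by
  constructor
  · intro hx K hK y hy
    exact mem_centralizer_iff.1 hx y (component_le_layer hK hy)
  · intro h
    have h1 : layer G ≤ centralizer ({x} : Set G) := by
      rw [layer_le_iff]
      intro K hK y hy
      rw [mem_centralizer_singleton_iff]
      exact h K hK y hy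
    refine mem_centralizer_iff.2 fun y hy => ?_
    have := h1 hy
    rw [mem_centralizer_singleton_iff] at this
    exact this

theorem comm_of_ne {K L : Subgroup G} (hK : IsComponent K) (hL : IsComponent L) (hne : K ≠ L) {x y : G}
    (hx : x ∈ K) (hy : y ∈ L) : x * y = y * x := by
  have h1 := component_le_centralizer_of_ne hK hL hne hx
  exact (mem_centralizer_iff.1 h1 y hy).symm

theorem mem_CE_iff {K : Subgroup G} (hK : IsComponent K) (x : K) : (x : G) ∈ CE G ↔ x ∈ center K := by
  rw [mem_CE, mem_center_iff]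
  constructor
  · intro h g
    exact Subtype.ext (h K hK g g.2)
  · intro h L hL y hy
    by_cases e : L = K
    · subst e
      exact congrArg Subtype.val (h ⟨y, hy⟩)
    · exact comm_of_ne hL hK e hy x.2

end

variable {H : Type u} [Group H] {q : G →* H} (hq : Function.Surjective q) (hk : q.ker = CE G)
include hq hk

variable [Finite G]

/-- `K^q ≅ K / Z(K)`. -/
theorem exists_equiv {K : Subgroup G} (hK : IsComponent K) : Nonempty (↥K ⧸ center ↥K ≃* K.map q) := by
  have h1 : (q.comp K.subtype).ker = center K := by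
    ext x
    rw [MonoidHom.mem_ker, MonoidHom.comp_apply, ← MonoidHom.mem_ker, hk]
    exact mem_CE_iff hK x
  have h2 : (q.comp K.subtype).range = K.map q := by
    rw [MonoidHom.range_comp, K.range_subtype]
  exact ⟨(QuotientGroup.quotientMulEquivOfEq h1.symm).trans
    ((QuotientGroup.quotientKerEquivRange (q.comp K.subtype)).trans (MulEquiv.subgroupCongr h2))⟩

theorem simple_map {K : Subgroup G} (hK : IsComponent K) : IsSimpleGroup (K.map q) := by
  obtain ⟨e⟩ := exists_equiv hq hk hK
  have := hK.2.2
  have := e.symm.toEquiv.nontrivial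
  exact IsSimpleGroup.isSimpleGroup_of_surjective e.toMonoidHom e.surjective

theorem nonab_map {K : Subgroup G} (hK : IsComponent K) : ¬ IsMulCommutative (K.map q) := by
  intro hc
  obtain ⟨e⟩ := exists_equiv hq hk hK
  apply quasisimple_center_ne_top hK.2
  have h1 : commutator K ≤ center K := by
    rw [_root_.commutator_def, Subgroup.commutator_le]
    intro a _ b _
    rw [← QuotientGroup.eq_one_iff]
    apply e.injective
    rw [map_one]
    have h2 : e (a : ↥K ⧸ center ↥K) * e (b : ↥K ⧸ center ↥K) =
        e (b : ↥K ⧸ center ↥K) * e (a : ↥K ⧸ center ↥K) := hc.1.1 _ _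
    have h3 : ((⁅a, b⁆ : K) : ↥K ⧸ center ↥K) = ⁅(a : ↥K ⧸ center ↥K), (b : ↥K ⧸ center ↥K)⁆ := rfl
    rw [h3, map_commutatorElement, commutatorElement_eq_one_iff_mul_comm]
    exact h2
  have h2 : commutator K = ⊤ := (quasisimple_isPerfect hK.2).1
  rw [h2] at h1
  exact top_le_iff.1 h1

theorem dvd_map {p : ℕ} [Fact p.Prime] (hO : pPrimeCore p G = ⊥) {K : Subgroup G} (hK : IsComponent K) :
    p ∣ Nat.card (K.map q) := by
  obtain ⟨e⟩ := exists_equiv hq hk hK
  rw [← Nat.card_congr e.toEquiv]
  exact H14.Diag.dvd_card_quot hO hK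

theorem cent_map {K L : Subgroup G} (h : ∀ x ∈ K, ∀ y ∈ L, x * y = y * x) :
    L.map q ≤ centralizer ((K.map q : Subgroup H) : Set H) := by
  rintro _ ⟨y, hy, rfl⟩
  rw [mem_centralizer_iff]
  rintro _ ⟨x, hx, rfl⟩
  rw [← map_mul, h x hx y hy, map_mul]

theorem map_conj_map {K : Subgroup G} (g : G) :
    (K.map q).map (MulAut.conj (q g)).toMonoidHom = (K.map (MulAut.conj g).toMonoidHom).map q := by
  rw [Subgroup.map_map, Subgroup.map_map]
  congr 1
  ext x
  simp

theorem tic {K : Subgroup G} (hK : IsComponent K) : Tic ((layer G).map q) (K.map q) where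
  simple := simple_map hq hk hK
  nonab := nonab_map hq hk hK
  norm := by
    have : (layer G).Normal := layer_normal G
    exact this.map q hq
  le := Subgroup.map_mono (component_le_layer hK)
  inner := by
    rw [map_le_iff_le_comap, layer_le_iff]
    intro L hL x hx
    rw [mem_comap]
    by_cases e : L = K
    · subst e
      exact ⟨(⟨q x, mem_map_of_mem q hx⟩, 1), by rw [mul2_apply, OneMemClass.coe_one, mul_one]⟩
    · exact ⟨(1, ⟨q x, cent_map hq hk (fun a ha b hb => comm_of_ne hK hL (Ne.symm e) ha hb)
        (mem_map_of_mem q hx)⟩), by rw [mul2_apply, OneMemClass.coe_one, one_mul]⟩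
  ti := by
    intro h
    obtain ⟨g, rfl⟩ := hq h
    rw [map_conj_map hq hk]
    by_cases e : K.map (MulAut.conj g).toMonoidHom = K
    · left
      rw [e]
    · right
      rintro _ ⟨x, hx, rfl⟩
      have h1 : K.map (MulAut.conj g).toMonoidHom ≤ centralizer (K : Set G) :=
        component_le_centralizer_of_ne (isComponent_conj g hK) hK e
      refine cent_map hq hk (K := K) (L := K.map (MulAut.conj g).toMonoidHom) ?_ ?_
      · intro a ha b hb
        exact (mem_centralizer_iff.1 (h1 hb) a ha)
      · rw [← map_inv, ← map_mul, ← map_mul]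
        exact mem_map_of_mem q ⟨x, hx, rfl⟩

theorem cross {K L : Subgroup G} (hK : IsComponent K) (hL : IsComponent L) (h : H) :
    (K.map q).map (MulAut.conj h).toMonoidHom = L.map q ∨
      ∀ x ∈ K.map q, h * x * h⁻¹ ∈ centralizer ((L.map q : Subgroup H) : Set H) := by
  obtain ⟨g, rfl⟩ := hq h
  rw [map_conj_map hq hk]
  by_cases e : K.map (MulAut.conj g).toMonoidHom = L
  · left
    rw [e]
  · right
    rintro _ ⟨x, hx, rfl⟩
    have h1 : K.map (MulAut.conj g).toMonoidHom ≤ centralizer (L : Set G) :=
      component_le_centralizer_of_ne (isComponent_conj g hK) hL e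
    refine cent_map hq hk (K := L) (L := K.map (MulAut.conj g).toMonoidHom) ?_ ?_
    · intro a ha b hb
      exact (mem_centralizer_iff.1 (h1 hb) a ha)
    · rw [← map_inv, ← map_mul, ← map_mul]
      exact mem_map_of_mem q ⟨x, hx, rfl⟩

theorem two {K L : Subgroup G} (hK : IsComponent K) (hL : IsComponent L) (hne : K ≠ L) :
    Two ((layer G).map q) (K.map q) (L.map q) where
  t₁ := tic hq hk hK
  t₂ := tic hq hk hL
  comm := by
    rintro _ ⟨x, hx, rfl⟩ _ ⟨y, hy, rfl⟩
    rw [← map_mul, comm_of_ne hK hL hne hx hy, map_mul]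
  cross := cross hq hk hK hL
  cross' := cross hq hk hL hK

end Cfsg.Agent.H751.BD
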