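import Cfsg.Agent.H751.BD.Prod
import Cfsg.Agent.Blocks.UniqueBlock
import Cfsg.Agent.Lib.GenFitting
import Cfsg.Agent.SignalizersComponents.CompOrbit
import Cfsg.Agent.H597.Taketa
import Cfsg.Agent.S4458
import Cfsg.Agent.S4460

/-!
# The constrained case (helper751, for S4932, S4953)
-/

set_option autoImplicit false
set_option linter.unusedSectionVars false

namespace Cfsg.Agent.H751.BD

open Cfsg Cfsg.Agent.H589.BD Cfsg.Agent.Characters.Core Cfsg.Agent.H672

universe u v w

variable {p : ℕ} {M : Ideal AlgInt} {G : Type u} [Group G]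

/-- An element in the kernel of all irreducible characters is trivial. -/
theorem eq_one_of_forall [Finite G] {g : G} (h : ∀ χ : IrrCharacter G, (χ : G → ℂ) g = (χ : G → ℂ) 1) :
    g = 1 := by
  classical
  have := Fintype.ofFinite G
  have := finite_irr (G := G)
  have := Fintype.ofFinite (IrrCharacter G)
  by_contra hg
  have h1 := sum_regular g
  have h2 := sum_regular (1 : G)
  rw [if_neg hg] at h1
  rw [if_pos rfl] at h2
  have h3 : ∑ χ : IrrCharacter G, (χ : G → ℂ) 1 * (χ : G → ℂ) g =
      ∑ χ : IrrCharacter G, (χ : G → ℂ) 1 * (χ : G → ℂ) 1 :=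
    Finset.sum_congr rfl fun χ _ => by rw [h χ]
  rw [h1, h2] at h3
  exact card_ne_zero_complex h3.symm

/-- A group all of whose irreducible characters are linear is abelian. -/
theorem commutator_eq_bot_of_linear [Finite G]
    (h : ∀ χ : IrrCharacter G, charDegree (χ : G → ℂ) = 1) : commutator G = ⊥ := by
  rw [eq_bot_iff]
  intro g hg
  rw [Subgroup.mem_bot]
  exact eq_one_of_forall fun χ => H597.Taketa.commutator_le_ker_of_linear χ.2 (h χ) g hg

/-- If `O_{p'}(G) = 1 = E(G)` then all irreducible characters are in the principal block. -/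
theorem mem_of_layer [Finite G] [Fact p.Prime] (hM : IsPModular p M) (hO : pPrimeCore p G = ⊥)
    (hl : layer G = ⊥) (χ : IrrCharacter G) : χ ∈ principalBlock M G := by
  have h1 : fittingSubgroup G ≤ pCore p G :=
    SignalizersComponents.CompOrbit.fittingSubgroup_le_pCore hO
  have h2 : generalizedFittingSubgroup G ≤ pCore p G := by
    rw [Lib.GenFitting.genFitting_def, hl, bot_sup_eq]
    exact h1
  have hn : (pCore p G).Normal := Lib.Cores.pCore_normal _
  have h3 : Subgroup.centralizer (pCore p G : Set G) ≤ pCore p G :=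
    (Subgroup.centralizer_le h2).trans (Lib.GenFitting.centralizer_genFitting_le.trans h2)
  exact Blocks.UniqueBlock.sameBlock_of_centralizer_le hM (pCore p G) (Lib.Cores.pCore_isPGroup p) h3
    (triv G) χ

/-- The constrained case. -/
theorem derived_of_layer [Finite G] [Fact p.Prime] (hM : IsPModular p M) (hO : pPrimeCore p G = ⊥)
    (hl : layer G = ⊥) (h3 : (cd0 M G).ncard ≤ 3) : derivedSeries G (cd0 M G).ncard = ⊥ := by
  have hall : ∀ χ : IrrCharacter G, charDegree (χ : G → ℂ) ∈ cd0 M G := fun χ =>
    mem_cd0 (mem_of_layer hM hO hl χ)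
  have hfin : (cd0 M G).Finite := cd0_finite
  have h0 : 0 < (cd0 M G).ncard := (Set.ncard_pos hfin).2 ⟨1, one_mem_cd0 hM⟩
  have hcases : (cd0 M G).ncard = 1 ∨ (cd0 M G).ncard = 2 ∨ (cd0 M G).ncard = 3 := by omega
  rcases hcases with h | h | h
  · rw [h]
    obtain ⟨a, ha⟩ := Set.ncard_eq_one.1 h
    have h1 : a = 1 := by
      have := one_mem_cd0 (G := G) hM
      rw [ha] at this
      exact this.symm
    have h2 : commutator G = ⊥ := commutator_eq_bot_of_linear fun χ => by
      have := hall χ
      rw [ha, h1] at this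
      exact this
    rw [derivedSeries_succ, derivedSeries_zero]
    exact h2
  · rw [h]
    obtain ⟨a, b, hab, he⟩ := Set.ncard_eq_two.1 h
    have h1 := one_mem_cd0 (G := G) hM
    obtain ⟨m, hm1, hm⟩ : ∃ m : ℕ, m ≠ 1 ∧ cd0 M G = {1, m} := by
      rw [he] at h1
      rcases h1 with h1 | h1
      · exact ⟨b, fun hb => hab (h1.symm.trans hb.symm), by rw [he, h1]⟩
      · have h1 : 1 = b := h1
        exact ⟨a, fun ha => hab (ha.trans h1), by rw [he, ← h1, Set.pair_comm]⟩
    have h2 := S4458.result (G := G) m (fun χ => by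
      have := hall χ
      rw [hm] at this
      exact this) (by
        have : m ∈ cd0 M G := by rw [hm]; right; rfl
        obtain ⟨χ, -, hχ⟩ := this
        exact ⟨χ, hχ⟩) hm1
    rw [derivedSeries_succ, derivedSeries_succ, derivedSeries_zero]
    show ⁅commutator G, commutator G⁆ = ⊥
    rw [Subgroup.commutator_eq_bot_iff_le_centralizer]
    intro x hx
    rw [Subgroup.mem_centralizer_iff]
    intro y hy
    exact h2 y hy x hx
  · have h1 : {n : ℕ | ∃ χ : IrrCharacter G, charDegree (χ : G → ℂ) = n} = cd0 M G := by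
      ext n
      constructor
      · rintro ⟨χ, rfl⟩
        exact hall χ
      · rintro ⟨χ, -, hχ⟩
        exact ⟨χ, hχ⟩
    have h2 := S4460.result (G := G) (by
      have h2 : Nat.card ↥{n : ℕ | ∃ χ : IrrCharacter G, charDegree (χ : G → ℂ) = n} = 3 := by
        rw [h1, Nat.card_coe_set_eq, h]
      exact h2)
    rw [h]
    exact h2

end Cfsg.Agent.H751.BD
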