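import Cfsg.Agent.H751.BD.Uniq

/-!
# The case of a unique component, conclusion (helper751, for S4932, S4953)
-/

set_option autoImplicit false
set_option linter.unusedSectionVars false
set_option linter.unusedVariables false

namespace Cfsg.Agent.H751.BD

open Cfsg Cfsg.Agent.H589.BD Subgroup
open Cfsg.Agent.SignalizersComponents.Components
open scoped commutatorElement

universe u v w

variable {G : Type u} [Group G] [Finite G] {L : Subgroup G} (hL : IsComponent L)
  (hu : ∀ K : Subgroup G, IsComponent K → K = L)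
include hL hu

variable {H : Type u} [Group H] {q : G →* H} (hq : Function.Surjective q) (hk : q.ker = CE G)
include hq hk

theorem ab_unique {p : ℕ} [Fact p.Prime] {M : Ideal AlgInt} (hM : IsPModular p M)
    (hO : pPrimeCore p G = ⊥) (hS : SizeOK ↥(L.map q)) {a b : ℕ}
    (hab : ∀ d ∈ cd0 M G, d ≠ 1 → d = a ∨ d = b) : Ab M (L.map q) a b := by
  have : Finite H := Finite.of_surjective q hq
  exact (tic hq hk hL).ab hM hS (dvd_map hq hk hO hL) fun d hd => hab d (cd0_quot hM q hq hd)

/-- `C_G(L)' ≤ L`. -/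
theorem commutator_CE_le {p : ℕ} [Fact p.Prime] {M : Ideal AlgInt} (hM : IsPModular p M)
    (hO : pPrimeCore p G = ⊥) (hS : SizeOK ↥(L.map q)) {a b : ℕ}
    (hab : ∀ d ∈ cd0 M G, d ≠ 1 → d = a ∨ d = b) : ⁅CE G, CE G⁆ ≤ L := by
  have : Finite H := Finite.of_surjective q hq
  have hLn := normal_of_unique hL hu
  have hr : (QuotientGroup.mk' L).ker = L := QuotientGroup.ker_mk' L
  have h1 : commutator ↥((CE G).map (QuotientGroup.mk' L)) = ⊥ :=
    commutator_eq_bot_of_linear fun φ =>
      linear q (QuotientGroup.mk' L) hM (cp hL hu hM hO) hk hr hS (index_le hL hu hq hk)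
        (index_one hL hu hq hk) (ab_unique hL hu hq hk hM hO hS hab) hab φ
  rw [commutator_le]
  intro c hc d hd
  rw [← QuotientGroup.ker_mk' L, MonoidHom.mem_ker, map_commutatorElement]
  have h2 : ⁅(⟨QuotientGroup.mk' L c, ⟨c, hc, rfl⟩⟩ : ↥((CE G).map (QuotientGroup.mk' L))),
      ⟨QuotientGroup.mk' L d, ⟨d, hd, rfl⟩⟩⁆ ∈ commutator ↥((CE G).map (QuotientGroup.mk' L)) :=
    commutator_mem_commutator (mem_top _) (mem_top _)
  rw [h1, mem_bot] at h2
  exact congrArg Subtype.val h2

theorem isPGroup_CE {p : ℕ} [Fact p.Prime] (hO : pPrimeCore p G = ⊥) (h : ⁅CE G, CE G⁆ ≤ L) :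
    IsPGroup p ↥(CE G) := by
  have hn : (CE G).Normal := CE_normal
  have h1 : CE G ≤ fittingSubgroup G := by
    refine Lib.Cores.le_fittingSubgroup hn ?_
    apply Group.of_quotient_center_nilpotent
    have : IsMulCommutative (↥(CE G) ⧸ center ↥(CE G)) := by
      refine ⟨⟨fun x y => ?_⟩⟩
      obtain ⟨x, rfl⟩ := QuotientGroup.mk_surjective x
      obtain ⟨y, rfl⟩ := QuotientGroup.mk_surjective y
      rw [← commutatorElement_eq_one_iff_mul_comm]
      have h2 : ((⁅x, y⁆ : ↥(CE G)) : ↥(CE G) ⧸ center ↥(CE G)) =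
        ⁅(x : ↥(CE G) ⧸ center ↥(CE G)), (y : ↥(CE G) ⧸ center ↥(CE G))⁆ := rfl
      rw [← h2, QuotientGroup.eq_one_iff, mem_center_iff]
      intro z
      have h3 : ((⁅x, y⁆ : ↥(CE G)) : G) ∈ L := h (commutator_mem_commutator x.2 y.2)
      exact Subtype.ext (comm_CE hL hu h3 z.2).symm
    open scoped IsMulCommutative in infer_instance
  exact (Lib.Cores.pCore_isPGroup p).to_le
    (h1.trans (SignalizersComponents.CompOrbit.fittingSubgroup_le_pCore hO))

theorem comp {p : ℕ} [Fact p.Prime] (hO : pPrimeCore p G = ⊥) (h : ⁅CE G, CE G⁆ ≤ L) :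
    Comp p ↥(L.map q) L (CE G) where
  normL := normal_of_unique hL hu
  perf := component_commutator_self hL
  normQ := CE_normal
  le := (CE_eq hL hu).le
  pgrp := isPGroup_CE hL hu hq hk hO h
  idx := by
    rw [← CE_eq hL hu, relIndex_self]
    intro h1
    exact (Fact.out : p.Prime).one_lt.ne' (Nat.dvd_one.1 h1)
  metab := by
    rw [commutator_eq_bot_iff_le_centralizer]
    have hn : (CE G).Normal := CE_normal
    have h1 : ⁅CE G, CE G⁆ ≤ CE G := commutator_le_self _
    have h2 : CE G ≤ centralizer (L : Set G) := (CE_eq hL hu).le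
    exact (h1.trans h2).trans (centralizer_le h)
  iso := by
    refine ⟨(q.comp L.subtype).codRestrict (L.map q) (fun x => ⟨x, x.2, rfl⟩), ?_, ?_⟩
    · rintro ⟨_, x, hx, rfl⟩
      exact ⟨⟨x, hx⟩, rfl⟩
    · intro x
      rw [← hk, MonoidHom.mem_ker]
      exact ⟨fun h => congrArg Subtype.val h, fun h => Subtype.ext h⟩

/-- The case of a unique component. -/
theorem unique_case {p : ℕ} [Fact p.Prime] {M : Ideal AlgInt} (hM : IsPModular p M)
    (hO : pPrimeCore p G = ⊥) (hS : SizeOK ↥(L.map q)) (hR : Row p ↥(L.map q))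
    (h3 : (cd0 M G).ncard ≤ 3) (P : Sylow p G) :
    derivedSeries ↥(P : Subgroup G) (cd0 M G).ncard = ⊥ := by
  have : Finite H := Finite.of_surjective q hq
  obtain ⟨a, b, hab⟩ := exists_pair hM h3
  have A := ab_unique hL hu hq hk hM hO hS hab
  have hsub : cd0 M H ⊆ cd0 M G := cd0_quot hM q hq
  have hfin : (cd0 M G).Finite := cd0_finite
  have hn3 : (cd0 M G).ncard = 3 := by
    refine le_antisymm h3 ?_
    have h1 : ({1, a, b} : Set ℕ) ⊆ cd0 M G := by
      rintro x (rfl | rfl | rfl)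
      · exact one_mem_cd0 hM
      · exact hsub A.mema
      · exact hsub A.memb
    have h2 : ({1, a, b} : Set ℕ).ncard = 3 := by
      rw [Set.ncard_eq_three]
      exact ⟨1, a, b, (A.ne_one hS).symm, (A.symm.ne_one hS).symm, A.ne, rfl⟩
    rw [← h2]
    exact Set.ncard_le_ncard h1 hfin
  rw [hn3]
  rcases hR with hR | hR
  · exfalso
    have h1 := hR H (L.map q) (over_map hL hu hq hk) M hM
    have h2 := Set.ncard_le_ncard hsub hfin
    omega
  · exact hR G L (CE G) (comp hL hu hq hk hO (commutator_CE_le hL hu hq hk hM hO hS hab)) P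

end Cfsg.Agent.H751.BD
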