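import Cfsg.Agent.H751.BD.Cen

/-!
# The characters of `C_G(L) / Z(L)` are linear (helper751, for S4932, S4953)
-/

set_option autoImplicit false
set_option linter.unusedSectionVars false

namespace Cfsg.Agent.H751.BD

open Cfsg Cfsg.Agent.H589.BD Cfsg.Agent.Characters.Core Cfsg.Agent.H672

universe u v w

variable {G : Type u} [Group G] {H₁ : Type v} [Group H₁] {H₂ : Type w} [Group H₂] {L C : Subgroup G}
  (q : G →* H₁) (r : G →* H₂) [Finite G]

theorem over_zz {p : ℕ} [Fact p.Prime] {M : Ideal AlgInt} (hM : IsPModular p M) (h : Cp p M L C)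
    (hq : q.ker = C) (hr : r.ker = L) {α : IrrCharacter ↥(L.map q)}
    (hα : α ∈ principalBlock M ↥(L.map q)) (φ : IrrCharacter ↥(C.map r)) :
    ∃ χ : IrrCharacter G, χ ∈ principalBlock M G ∧
      charDegree (α : ↥(L.map q) → ℂ) * charDegree (φ : ↥(C.map r) → ℂ) ∣ charDegree (χ : G → ℂ) ∧
      charDegree (χ : G → ℂ) ≤
        charDegree (α : ↥(L.map q) → ℂ) * charDegree (φ : ↥(C.map r) → ℂ) * (L ⊔ C).index := by
  have hL := h.nL
  have hC := h.nC
  obtain ⟨χ, hχ, ho⟩ := exists_over_mem hM (L ⊔ C) (zz_mem q r hM h hq hr hα φ)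
  obtain ⟨h1, h2⟩ := charDegree_dvd_of_over (L ⊔ C) χ.2 (zz q r hq hr α φ).2 ho
  rw [charDegree_zz] at h1 h2
  refine ⟨χ, hχ, h1, ?_⟩
  have h3 := Nat.le_of_dvd (Nat.pos_of_ne_zero Subgroup.index_ne_zero_of_finite) h2
  obtain ⟨k, hk⟩ := h1
  have hpos : 0 < charDegree (α : ↥(L.map q) → ℂ) * charDegree (φ : ↥(C.map r) → ℂ) :=
    Nat.mul_pos (charDegree_pos α.2) (charDegree_pos φ.2)
  rw [hk, Nat.mul_div_cancel_left _ hpos] at h3
  rw [hk]
  exact Nat.mul_le_mul_left _ h3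

theorem lin_aux {p : ℕ} [Fact p.Prime] {M : Ideal AlgInt} (hM : IsPModular p M) (h : Cp p M L C)
    (hq : q.ker = C) (hr : r.ker = L) [Finite H₁] (hS : SizeOK ↥(L.map q))
    (hidx : (L ⊔ C).index ≤ Nat.card (Out ↥(L.map q))) {a b : ℕ}
    (hn : (Subgroup.normalizer ((L.map q : Subgroup H₁) : Set H₁)).index = 1)
    (A : Ab M (L.map q) a b) (hab : ∀ d ∈ cd0 M G, d ≠ 1 → d = a ∨ d = b)
    {φ : IrrCharacter ↥(C.map r)} (h0 : a ≤ charDegree (φ : ↥(C.map r) → ℂ) * (L ⊔ C).index) :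
    False := by
  obtain ⟨α, hα, hα1, hαa⟩ := A.left
  rw [hn, one_mul] at hαa
  have ho := SizeOK.lt hS hα1
  have hop := out_pos (S := ↥(L.map q))
  have hφ := charDegree_pos φ.2
  obtain ⟨χ, hχ, h1, h2⟩ := over_zz q r hM h hq hr hα φ
  have hχ1 : charDegree (χ : G → ℂ) ≠ 1 := by
    intro e
    rw [e, Nat.dvd_one, mul_eq_one] at h1
    omega
  rcases hab _ (mem_cd0 hχ) hχ1 with e | e
  · rw [e] at h1
    have ha : 0 < a := by
      rw [← e]
      exact charDegree_pos χ.2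
    have h3 := Nat.le_of_dvd ha h1
    have h4 : charDegree (φ : ↥(C.map r) → ℂ) * (L ⊔ C).index <
        charDegree (α : ↥(L.map q) → ℂ) * charDegree (φ : ↥(C.map r) → ℂ) := by
      rw [mul_comm (charDegree (α : ↥(L.map q) → ℂ))]
      exact Nat.mul_lt_mul_of_pos_left (lt_of_le_of_lt hidx ho) hφ
    omega
  · rw [e] at h1
    have h3 := A.gcd _ hαa ((Nat.dvd_mul_right _ _).trans h1)
    rw [hn, one_mul] at h3
    omega

theorem linear {p : ℕ} [Fact p.Prime] {M : Ideal AlgInt} (hM : IsPModular p M) (h : Cp p M L C)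
    (hq : q.ker = C) (hr : r.ker = L) [Finite H₁] (hS : SizeOK ↥(L.map q))
    (hidx : (L ⊔ C).index ≤ Nat.card (Out ↥(L.map q))) {a b : ℕ}
    (hn : (Subgroup.normalizer ((L.map q : Subgroup H₁) : Set H₁)).index = 1)
    (A : Ab M (L.map q) a b) (hab : ∀ d ∈ cd0 M G, d ≠ 1 → d = a ∨ d = b)
    (φ : IrrCharacter ↥(C.map r)) : charDegree (φ : ↥(C.map r) → ℂ) = 1 := by
  by_contra hne
  obtain ⟨χ, hχ, h1, h2⟩ := over_zz q r hM h hq hr (triv_mem hM) φ
  rw [charDegree_triv, one_mul] at h1 h2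
  have hχ1 : charDegree (χ : G → ℂ) ≠ 1 := by
    intro e
    rw [e, Nat.dvd_one] at h1
    exact hne h1
  rcases hab _ (mem_cd0 hχ) hχ1 with e | e
  · rw [e] at h2
    exact lin_aux q r hM h hq hr hS hidx hn A hab h2
  · rw [e] at h2
    exact lin_aux q r hM h hq hr hS hidx hn A.symm (fun d hd hd1 => (hab d hd hd1).symm) h2

end Cfsg.Agent.H751.BD
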