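import Cfsg.Agent.H751.BD.Fin

/-!
# The reduction of S4932 and S4953 to the rows (helper751)

`red (R : Rows)` is S4932, `red_four (R : Rows)` is S4953. Here `Rows` (`H589/BD/Defs.lean`) says: for every finite
nonabelian simple group `S`, `SizeOK S` (`|Out S| < χ(1)` for all `χ ≠ 1`) and for every prime `p ∣ |S|`,
`Kill p S` or `Tame p S`.
-/

set_option autoImplicit false
set_option linter.unusedSectionVars false

namespace Cfsg.Agent.H751.BD

open Cfsg Cfsg.Agent.H589.BD Subgroup
open Cfsg.Agent.SignalizersComponents.Components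

universe u v w

theorem derivedSeries_of_injective {A : Type u} [Group A] {B : Type v} [Group B] (f : A →* B)
    (hf : Function.Injective f) {k : ℕ} (h : derivedSeries B k = ⊥) : derivedSeries A k = ⊥ := by
  have h1 := map_derivedSeries_le_derivedSeries f k
  rw [h, le_bot_iff, Subgroup.map_eq_bot_iff_of_injective _ hf] at h1
  exact h1

theorem derivedSeries_mono {A : Type u} [Group A] {k l : ℕ} (hkl : k ≤ l)
    (h : derivedSeries A k = ⊥) : derivedSeries A l = ⊥ := by
  have h1 := derivedSeries_antitone A hkl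
  rw [h, le_bot_iff] at h1
  exact h1

/-- There are no two components. -/
theorem no_two (R : Rows.{u}) {G : Type u} [Group G] [Finite G] {p : ℕ} [hpr : Fact p.Prime]
    {M : Ideal AlgInt} (hM : IsPModular p M) (hO : pPrimeCore p G = ⊥)
    (h3 : (cd0 M G).ncard ≤ 3) {K L : Subgroup G} (hK : IsComponent K) (hL : IsComponent L) : K = L := by
  by_contra hne
  have hn : (CE G).Normal := CE_normal
  have hq := QuotientGroup.mk'_surjective (CE G)
  have hk := QuotientGroup.ker_mk' (CE G)
  obtain ⟨a, b, hab⟩ := exists_pair hM h3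
  have hab' : ∀ d ∈ cd0 M (G ⧸ CE G), d ≠ 1 → d = a ∨ d = b := fun d hd =>
    hab d (cd0_quot hM _ hq hd)
  have tK := tic hq hk hK
  have tL := tic hq hk hL
  have sK := tK.simple
  have sL := tL.simple
  have oK := (R _ tK.nonab).1
  have oL := (R _ tL.nonab).1
  exact (two hq hk hK hL hne).false hM oK oL hab' (tK.ab hM oK (dvd_map hq hk hO hK) hab')
    (tL.ab hM oL (dvd_map hq hk hO hL) hab')

theorem red_core (R : Rows.{u}) {G : Type u} [Group G] [Finite G] {p : ℕ} [hpr : Fact p.Prime]
    {M : Ideal AlgInt} (hM : IsPModular p M) (hO : pPrimeCore p G = ⊥)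
    (h3 : (cd0 M G).ncard ≤ 3) (P : Sylow p G) :
    derivedSeries ↥(P : Subgroup G) (cd0 M G).ncard = ⊥ := by
  by_cases hl : layer G = ⊥
  · exact derivedSeries_of_injective (P : Subgroup G).subtype (P : Subgroup G).subtype_injective
      (derived_of_layer hM hO hl h3)
  · have hex : ∃ L : Subgroup G, IsComponent L := by
      by_contra hcon
      push Not at hcon
      apply hl
      rw [eq_bot_iff, layer_le_iff]
      intro K hK
      exact absurd hK (hcon K)
    obtain ⟨L, hL⟩ := hex
    have hn : (CE G).Normal := CE_normal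
    have hq := QuotientGroup.mk'_surjective (CE G)
    have hk := QuotientGroup.ker_mk' (CE G)
    have hu : ∀ K : Subgroup G, IsComponent K → K = L := fun K hK => no_two R hM hO h3 hK hL
    have tL := tic hq hk hL
    have sL := tL.simple
    obtain ⟨oL, rL⟩ := R _ tL.nonab
    exact unique_case hL hu hq hk hM hO oL (rL p hpr.out (dvd_map hq hk hO hL)) h3 P

/-- **S4932** from the rows. -/
theorem red (R : Rows.{u}) {G : Type u} [Group G] [Finite G] (p : ℕ) [hpr : Fact p.Prime]
    (M : Ideal AlgInt) (hM : IsPModular p M) (P : Sylow p G) (h3 : (cd0 M G).ncard ≤ 3) :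
    derivedSeries ↥(P : Subgroup G) (cd0 M G).ncard = ⊥ := by
  have hs := QuotientGroup.mk'_surjective (pPrimeCore p G)
  have hsub : cd0 M (G ⧸ pPrimeCore p G) ⊆ cd0 M G := cd0_quot hM _ hs
  have hle := Set.ncard_le_ncard hsub cd0_finite
  have h1 := red_core R hM (Lib.Cores.pPrimeCore_quotient_pPrimeCore p) (hle.trans h3)
    (P.mapSurjective hs)
  refine derivedSeries_mono hle ?_
  have h2 : ∀ x : ↥(P : Subgroup G), QuotientGroup.mk' (pPrimeCore p G) x ∈
      ((P.mapSurjective hs : Sylow p (G ⧸ pPrimeCore p G)) : Subgroup (G ⧸ pPrimeCore p G)) := by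
    intro x
    rw [Sylow.coe_mapSurjective]
    exact ⟨x, x.2, rfl⟩
  refine derivedSeries_of_injective (((QuotientGroup.mk' (pPrimeCore p G)).comp
    (P : Subgroup G).subtype).codRestrict _ h2) ?_ h1
  rw [injective_iff_map_eq_one]
  intro x hx
  have h3 : QuotientGroup.mk' (pPrimeCore p G) (x : G) = 1 := congrArg Subtype.val hx
  rw [← MonoidHom.mem_ker, QuotientGroup.ker_mk'] at h3
  obtain ⟨n, hn⟩ := IsPGroup.iff_card.1 P.isPGroup'
  have h4 : Disjoint (P : Subgroup G) (pPrimeCore p G) := by
    refine Subgroup.disjoint_of_coprime_natCard ?_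
    rw [hn]
    exact (Nat.Coprime.pow_right n (Lib.Cores.pPrimeCore_coprime p)).symm
  exact Subtype.ext (Subgroup.disjoint_def.1 h4 x.2 h3)

/-- **S4953** from the rows. -/
theorem red_four (R : Rows.{u}) {G : Type u} [Group G] [Finite G] (p : ℕ) [hpr : Fact p.Prime]
    (M : Ideal AlgInt) (hM : IsPModular p M) (P : Sylow p G)
    (h4 : derivedSeries ↥(P : Subgroup G) 4 = ⊥) :
    derivedSeries ↥(P : Subgroup G) (cd0 M G).ncard = ⊥ := by
  by_cases h : (cd0 M G).ncard ≤ 3
  · exact red R p M hM P h
  · exact derivedSeries_mono (by omega) h4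

end Cfsg.Agent.H751.BD
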