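import Cfsg.Agent.H751.BD.Lin
import Cfsg.Agent.H751.BD.Comps
import Cfsg.Agent.H751.BD.Constr

/-!
# A unique component (helper751, for S4932, S4953)
-/

set_option autoImplicit false
set_option linter.unusedSectionVars false

namespace Cfsg.Agent.H751.BD

open Cfsg Cfsg.Agent.H589.BD Subgroup
open Cfsg.Agent.SignalizersComponents.Components
open scoped commutatorElement

universe u v w

variable {G : Type u} [Group G] [Finite G] {L : Subgroup G} (hL : IsComponent L)
  (hu : ∀ K : Subgroup G, IsComponent K → K = L)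
include hL hu

theorem normal_of_unique : L.Normal := by
  constructor
  intro x hx g
  rw [← hu _ (isComponent_conj g hL)]
  exact ⟨x, hx, rfl⟩

theorem layer_of_unique : layer G = L := by
  apply le_antisymm
  · rw [layer_le_iff]
    intro K hK
    rw [hu K hK]
  · exact component_le_layer hL

theorem comm_CE {x : G} (hx : x ∈ L) {y : G} (hy : y ∈ CE G) : x * y = y * x :=
  mem_CE.1 hy L hL x hx

theorem CE_eq : CE G = centralizer (L : Set G) := by
  unfold CE
  rw [layer_of_unique hL hu]

theorem layer_CE : layer ↥(CE G) = ⊥ := by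
  rw [eq_bot_iff, layer_le_iff]
  intro K hK
  exfalso
  have hn : (CE G).Normal := CE_normal
  have h1 := isComponent_map_subtype hn.isSubnormal hK
  have h2 := hu _ h1
  have h3 : L ≤ CE G := by
    rw [← h2]
    exact map_subtype_le _
  apply quasisimple_not_isMulCommutative hL.2
  exact ⟨⟨fun a b => Subtype.ext (comm_CE hL hu a.2 (h3 b.2))⟩⟩

theorem pPrimeCore_CE {p : ℕ} (hO : pPrimeCore p G = ⊥) : pPrimeCore p ↥(CE G) = ⊥ := by
  have hn : (CE G).Normal := CE_normal
  have h1 := Lib.Cores.map_subtype_pPrimeCore p hn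
  rw [hO, inf_bot_eq, Subgroup.map_eq_bot_iff, ker_subtype] at h1
  exact le_bot_iff.1 h1

theorem isPGroup_inf {p : ℕ} [Fact p.Prime] (hO : pPrimeCore p G = ⊥) : IsPGroup p ↥(L ⊓ CE G) := by
  have hn : (CE G).Normal := CE_normal
  have hLn := normal_of_unique hL hu
  have h1 : L ⊓ CE G ≤ fittingSubgroup G := by
    refine Lib.Cores.le_fittingSubgroup inferInstance ?_
    have : IsMulCommutative ↥(L ⊓ CE G) :=
      ⟨⟨fun a b => Subtype.ext (comm_CE hL hu a.2.1 b.2.2)⟩⟩
    open scoped IsMulCommutative in infer_instance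
  exact (Lib.Cores.pCore_isPGroup p).to_le
    (h1.trans (SignalizersComponents.CompOrbit.fittingSubgroup_le_pCore hO))

theorem cp {p : ℕ} [Fact p.Prime] {M : Ideal AlgInt} (hM : IsPModular p M) (hO : pPrimeCore p G = ⊥) :
    Cp p M L (CE G) where
  nL := normal_of_unique hL hu
  nC := CE_normal
  comm := fun x hx y hy => comm_CE hL hu hx hy
  inf := isPGroup_inf hL hu hO
  all := mem_of_layer hM (pPrimeCore_CE hL hu hO) (layer_CE hL hu)

variable {H : Type u} [Group H] {q : G →* H} (hq : Function.Surjective q) (hk : q.ker = CE G)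
include hq hk

theorem cent_bot : centralizer ((L.map q : Subgroup H) : Set H) = ⊥ := by
  have hLn := normal_of_unique hL hu
  rw [← Subgroup.map_comap_eq_self_of_surjective hq (centralizer ((L.map q : Subgroup H) : Set H)),
    Subgroup.map_eq_bot_iff, hk]
  set X := (centralizer ((L.map q : Subgroup H) : Set H)).comap q with hX
  have h1 : ⁅X, L⁆ ≤ CE G := by
    rw [commutator_le]
    intro g hg x hx
    rw [← hk, MonoidHom.mem_ker, map_commutatorElement, commutatorElement_eq_one_iff_mul_comm]
    exact (mem_centralizer_iff.1 (mem_comap.1 hg) (q x) ⟨x, hx, rfl⟩).symm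
  have h2 : ⁅⁅X, L⁆, L⁆ = ⊥ := by
    rw [commutator_eq_bot_iff_le_centralizer, ← CE_eq hL hu]
    exact h1
  have h3 := commutator_eq_bot_of_commutator_commutator_eq_bot hL.2.1 h2
  rwa [commutator_eq_bot_iff_le_centralizer, ← CE_eq hL hu] at h3

theorem over_map : Over ↥(L.map q) (L.map q) where
  normal := (normal_of_unique hL hu).map q hq
  iso := ⟨MulEquiv.refl _⟩
  cent := cent_bot hL hu hq hk

theorem index_one : (normalizer ((L.map q : Subgroup H) : Set H)).index = 1 := by
  have h1 : (L.map q).Normal := (normal_of_unique hL hu).map q hq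
  rw [normalizer_eq_top, index_top]

theorem index_le : (L ⊔ CE G).index ≤ Nat.card (Out ↥(L.map q)) := by
  have : Finite H := Finite.of_surjective q hq
  have h1 := (tic hq hk hL).card_le
  rw [index_one hL hu hq hk, one_mul, cent_bot hL hu hq hk, card_bot, mul_one] at h1
  have h2 : (L ⊔ CE G).index = (L.map q).index := by
    rw [← Subgroup.index_comap_of_surjective _ hq, Subgroup.comap_map_eq, hk]
  rw [h2]
  have h3 := (L.map q).index_mul_card
  rw [← h3] at h1
  exact Nat.le_of_mul_le_mul_right h1 Nat.card_pos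

end Cfsg.Agent.H751.BD
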